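import Mathlib

/-!
# Strict pro-representability of left exact functors on artinian categories
-/

set_option autoImplicit false
set_option linter.style.haveILetI false

universe u

open CategoryTheory CategoryTheory.Limits Opposite

namespace ProRepLib

variable {C : Type u} [SmallCategory C] [HasFiniteLimits C] (F : C ⥤ Type u)

/-- An element is minimal if it does not come from a proper subobject. -/
def minimalElt : ObjectProperty F.Elements := fun e =>
  ∀ (P : Subobject e.1) (y : F.obj (P : C)), F.map P.arrow y = e.2 → P = ⊤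

variable [PreservesFiniteLimits F]

variable {F} in
theorem eq_of_map_eq {e : F.Elements} (he : minimalElt F e) {Y : C} (f g : e.1 ⟶ Y)
    (h : F.map f e.2 = F.map g e.2) : f = g := by
  let hl := isLimitForkMapOfIsLimit F _ (equalizerIsEqualizer f g)
  let h' := (Types.equalizerLimit (g := F.map f) (h := F.map g)).isLimit
  let y : F.obj (equalizer f g) := (h'.conePointUniqueUpToIso hl).hom ⟨e.2, h⟩
  have hy : F.map (equalizer.ι f g) y = e.2 :=
    ConcreteCategory.congr_hom (h'.conePointUniqueUpToIso_hom_comp hl .zero) ⟨e.2, h⟩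
  have hP := he (Subobject.mk (equalizer.ι f g))
    (F.map (Subobject.underlyingIso (equalizer.ι f g)).inv y) (by
      rw [← ConcreteCategory.comp_apply, ← F.map_comp, Subobject.underlyingIso_arrow]
      exact hy)
  haveI := (Subobject.isIso_iff_mk_eq_top (equalizer.ι f g)).2 hP
  exact (cancel_epi (equalizer.ι f g)).1 (equalizer.condition f g)

theorem exists_minimal (hart : ∀ X : C, IsArtinianObject X) (e : F.Elements) :
    ∃ c : (minimalElt F).FullSubcategory, Nonempty (c.obj ⟶ e) := by
  haveI := hart e.1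
  obtain ⟨P, ⟨y, hy⟩, hmin⟩ := wellFounded_lt.has_min
    {P : Subobject e.1 | ∃ y : F.obj (P : C), F.map P.arrow y = e.2}
    ⟨⊤, F.map (inv (⊤ : Subobject e.1).arrow) e.2, by
      rw [← ConcreteCategory.comp_apply, ← F.map_comp, IsIso.inv_hom_id, F.map_id]; rfl⟩
  refine ⟨⟨⟨(P : C), y⟩, fun Q z hz => ?_⟩, ⟨CategoryOfElements.homMk _ e P.arrow hy⟩⟩
  change F.map Q.arrow z = y at hz
  by_contra hne
  refine hmin (Subobject.mk (Q.arrow ≫ P.arrow))
    ⟨F.map (Subobject.underlyingIso (Q.arrow ≫ P.arrow)).inv z, ?_⟩ ?_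
  · rw [← ConcreteCategory.comp_apply, ← F.map_comp, Subobject.underlyingIso_arrow, F.map_comp,
      ConcreteCategory.comp_apply, hz, hy]
  · have hle : Subobject.mk (Q.arrow ≫ P.arrow) ≤ P := Subobject.mk_le_of_comm Q.arrow rfl
    refine lt_of_le_of_ne hle fun heq => hne ?_
    haveI : IsIso Q.arrow := by
      have h1 : Subobject.ofMkLE (Q.arrow ≫ P.arrow) P hle = Q.arrow :=
        (cancel_mono P.arrow).1 (Subobject.ofMkLE_arrow hle)
      let i := Subobject.ofLEMk P (Q.arrow ≫ P.arrow) heq.ge
      have h2 : i ≫ Q.arrow = 𝟙 _ := by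
        rw [← cancel_mono P.arrow, Category.assoc, Category.id_comp]
        exact Subobject.ofLEMk_comp heq.ge
      exact ⟨i, by rw [← cancel_mono Q.arrow, Category.assoc, h2, Category.comp_id,
        Category.id_comp], h2⟩
    exact Subobject.eq_top_of_isIso_arrow Q

theorem exists_strict (hart : ∀ X : C, IsArtinianObject X) :
    ∃ (J : Type u) (_ : SmallCategory J) (_ : IsCofiltered J) (D : J ⥤ C),
      (∀ ⦃j j' : J⦄ (a : j ⟶ j'), Epi (D.map a)) ∧ Nonempty (F ≅ colimit (D.op ⋙ coyoneda)) := by
  haveI := F.isCofiltered_elements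
  haveI hJ : IsCofiltered (minimalElt F).FullSubcategory :=
    IsCofiltered.of_exists_of_isCofiltered_of_fullyFaithful (minimalElt F).ι (exists_minimal F hart)
  let D : (minimalElt F).FullSubcategory ⥤ C := (minimalElt F).ι ⋙ CategoryOfElements.π F
  refine ⟨_, inferInstance, hJ, D, fun j j' a => ⟨fun {Z} g h hgh => ?_⟩, ?_⟩
  · refine eq_of_map_eq j'.property g h ?_
    rw [← a.hom.2, ← ConcreteCategory.comp_apply, ← ConcreteCategory.comp_apply, ← F.map_comp,
      ← F.map_comp]
    exact congrArg (fun φ => F.map φ j.obj.2) hgh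
  let c : Cocone (D.op ⋙ coyoneda) :=
    Cocone.mk F
      { app := fun j => coyonedaEquiv.symm j.unop.obj.2
        naturality := fun j j' a => by
          ext Y (f : D.obj j.unop ⟶ Y)
          change F.map (D.map a.unop ≫ f) j'.unop.obj.2 = F.map f j.unop.obj.2
          rw [F.map_comp, ConcreteCategory.comp_apply]
          exact congrArg (F.map f) a.unop.hom.2 }
  have hc : IsColimit c := evaluationJointlyReflectsColimits _ fun Y => by
    refine Types.FilteredColimit.isColimitOf' _ _ (fun y => ?_) fun j f g hfg => ?_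
    · obtain ⟨m, ⟨φ⟩⟩ := exists_minimal F hart ⟨Y, y⟩
      exact ⟨op m, φ.1, φ.2.symm⟩
    · exact ⟨j, 𝟙 j, congrArg _ (eq_of_map_eq j.unop.property _ _ hfg)⟩
  exact ⟨hc.coconePointUniqueUpToIso (colimit.isColimit _)⟩

end ProRepLib
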